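import Cfsg.Agent.H95.CoThree.PairsData
import Cfsg.Agent.H95.CoThree.PermData

/-!
Kernel checks of the pairs and of the action of the generators on them.
-/

set_option autoImplicit false
set_option Elab.async false
set_option maxRecDepth 100000

namespace Cfsg.Agent.H95.CoThree

open Cfsg.Agent.Compute

open Cfsg.Agent.H92.LeechOrbit

theorem pairsCert_ok : certOK pairsCert = true := by decide +kernel

theorem pairs_len : pairsCert.N = 552 ∧ pairsCert.gens.length = 5 := ⟨rfl, rfl⟩

theorem chk_ok : allN 5 (fun g => allN 552 (fun i =>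
    Nat.ble (Nat.add (getP 10 (nth 0 pairsBig g) i) 1) 552 &&
      chk (nth [] pairsCert.gens g) (pairsCert.code i)
        (pairsCert.code (getP 10 (nth 0 pairsBig g) i)) &&
      Nat.beq (getP 9 pairOf (getP 10 (nth 0 pairsBig g) i))
        (getP 9 (nth ((0, 0), 0, 0) co3Slp g).1.1 (getP 9 pairOf i)))) = true := by
  decide +kernel

theorem big_inj : allN 5 (fun g =>
    distinct ((List.range 552).map fun i => getP 10 (nth 0 pairsBig g) i) 0) = true := by
  decide +kernel

theorem pair_lt : allN 552 (fun i => Nat.ble (Nat.add (getP 9 pairOf i) 1) 276) = true := by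
  decide +kernel

theorem pair_rep : allN 276 (fun y => Nat.ble (Nat.add (getP 10 pairRep y) 1) 552 &&
    Nat.beq (getP 9 pairOf (getP 10 pairRep y)) y) = true := by
  decide +kernel

end Cfsg.Agent.H95.CoThree
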