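import Cfsg.Agent.H95.CoThree.PermData

/-!
Kernel checks of Co3 on 276 points.
-/

set_option autoImplicit false
set_option Elab.async false
set_option maxRecDepth 100000

namespace Cfsg.Agent.H95.CoThree

open Cfsg.Agent.Compute

theorem slp_ok : PermIso.slpOK 9 276 5 (co3Slp.map Prod.fst) co3Slp = true := by decide +kernel

theorem low_ok : PermLower.lowOK 9 276 co3Slp co3Steps [] = true := by decide +kernel

theorem bound_eq : PermLower.bound co3Steps = 495766656000 := by decide +kernel

theorem slp_len : Nat.ble 5 co3Slp.length = true := by decide +kernel

end Cfsg.Agent.H95.CoThree
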