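import Cfsg.Agent.H95.CoThree.CheckPerm
import Cfsg.Agent.H95.CoThree.CheckPairs
import Cfsg.Agent.H95.LeechPermIso
import Cfsg.Agent.H92.LeechFrames
import Cfsg.Agent.Golay.OutCo3

/-!
Co3 as a permutation group on 276 points.
-/

set_option autoImplicit false
set_option maxRecDepth 8000

namespace Cfsg.Agent.H95.CoThree

open Cfsg Cfsg.Agent.Compute Cfsg.Agent.Golay Cfsg.Agent.H92.LeechOrbit
open scoped Pointwise

attribute [local irreducible] PermLower.lowOK PermIso.slpOK chk certOK co3Slp co3Steps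
  pairsCertData permDen getP

theorem two_pow_nine : (276 : ℕ) ≤ 2 ^ 9 := by norm_num

/-- The code of an element of the program. -/
noncomputable def pCode (g : ℕ) : ℕ := (nth ((0, 0), 0, 0) co3Slp g).1.1

/-- The generating permutations. -/
noncomputable def genSet : Set (Equiv.Perm (Fin 276)) :=
  {σ | ∃ k < 5, σ = permDen 9 276 (pCode k)}

/-- The permutation group on 276 points. -/
noncomputable def grp : Subgroup (Equiv.Perm (Fin 276)) := Subgroup.closure genSet

theorem grp_eq : grp = PermLower.genGrp 9 276 5 co3Slp := rfl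

theorem entry_spec {k : ℕ} (hk : k < co3Slp.length) :
    PermOK 9 276 (pCode k) ∧ permDen 9 276 (pCode k) ∈ grp :=
  PermLower.entry_mem (m := 5) two_pow_nine slp_ok hk

theorem pCode_spec {g : ℕ} (hg : g < 5) (i : Fin 276) :
    (permDen 9 276 (pCode g) i : ℕ) = getP 9 (pCode g) i :=
  permDen_apply (entry_spec (lt_of_lt_of_le hg (Nat.le_of_ble_eq_true slp_len))).1 i

theorem card_grp_ge : 495766656000 ≤ Nat.card grp := by
  rw [grp_eq, ← bound_eq]
  exact PermLower.card_ge two_pow_nine slp_ok low_ok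

theorem fixer_grp (hcard : Nat.card (fixer pairsCert) = 495766656000) :
    Nonempty (fixer pairsCert ≃* grp) := by
  refine LeechPermIso.fixer_iso_blocks pairsCert_ok
    (fun i => (⟨getP 9 pairOf i, Nat.le_of_ble_eq_true
      ((allN_iff _ _).1 pair_lt i (lt_of_lt_of_eq i.2 pairs_len.1))⟩ : Fin 276)) (fun y => ?_)
    grp (s := genSet) le_rfl ?_ (hcard.trans_le card_grp_ge)
  · have h := (allN_iff _ _).1 pair_rep y y.2
    rw [Bool.and_eq_true, Nat.beq_eq] at h
    exact ⟨⟨_, lt_of_lt_of_eq (Nat.le_of_ble_eq_true h.1) pairs_len.1.symm⟩, Fin.ext h.2⟩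
  rintro σ ⟨g, hg, rfl⟩
  refine ⟨nth [] pairsCert.gens g, nth_mem _ _ _ (lt_of_lt_of_eq hg pairs_len.2.symm), ?_⟩
  have h : ∀ i < 552, getP 10 (nth 0 pairsBig g) i < 552 ∧
      chk (nth [] pairsCert.gens g) (pairsCert.code i)
        (pairsCert.code (getP 10 (nth 0 pairsBig g) i)) = true ∧
      getP 9 pairOf (getP 10 (nth 0 pairsBig g) i) = getP 9 (pCode g) (getP 9 pairOf i) := by
    intro i hi
    have h := (allN_iff _ _).1 ((allN_iff _ _).1 chk_ok g hg) i hi
    simp only [Bool.and_eq_true, Nat.beq_eq] at h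
    exact ⟨Nat.le_of_ble_eq_true h.1.1, h.1.2, h.2⟩
  let f : Fin pairsCert.N → Fin pairsCert.N := fun i =>
    ⟨getP 10 (nth 0 pairsBig g) i,
      lt_of_lt_of_eq (h i (lt_of_lt_of_eq i.2 pairs_len.1)).1 pairs_len.1.symm⟩
  have hfi : Function.Injective f := by
    intro a b e
    have hn := (distinct_sound _ _ ((allN_iff _ _).1 big_inj g hg)).1
    exact Fin.ext (List.inj_on_of_nodup_map hn (List.mem_range.2 (lt_of_lt_of_eq a.2 pairs_len.1))
      (List.mem_range.2 (lt_of_lt_of_eq b.2 pairs_len.1)) (congrArg Fin.val e))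
  exact ⟨Equiv.ofBijective f (Finite.injective_iff_bijective.1 hfi),
    fun i => (h i (lt_of_lt_of_eq i.2 pairs_len.1)).2.1,
    fun i => Fin.ext ((h i (lt_of_lt_of_eq i.2 pairs_len.1)).2.2.trans
      (pCode_spec hg ⟨_, _⟩).symm)⟩

/-- Co3 is the permutation group on 276 points. -/
theorem co3_equiv : Nonempty (↥Spor.Co3 ≃* grp) := by
  have := finite_co0
  have hn : sqNorm Spor.leechV.1 = 48 := leechV_facts.1
  obtain ⟨k, hk⟩ := exists_move_fortyeight Spor.leechV hn
  have hF : Frame pairsCert [(Spor.leechV, 24)] k := by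
    show [((k • Spor.leechV : leechLattice).1, (24 : ℤ))] = _
    rw [hk]
    rfl
  obtain ⟨e1⟩ := LeechPermIso.stab_equiv hF (H := MulAction.stabilizer Co0 Spor.leechV)
    (fun g => by simp [MulAction.mem_stabilizer_iff])
  obtain ⟨e2⟩ := fixer_grp (by rw [← Nat.card_congr e1.toEquiv]; exact card_stab_fortyeight hn)
  let E : co3Stab ≃* Spor.Co3 :=
    (co3Stab.equivMapOfInjective _ Co0.subtype_injective).trans (MulEquiv.subgroupCongr map_co3Stab)
  have hs : co3Stab = MulAction.stabilizer Co0 Spor.leechV := by ext g; rfl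
  exact ⟨E.symm.trans ((MulEquiv.subgroupCongr hs).trans (e1.trans e2))⟩

/-- The order. -/
theorem card_grp : Nat.card grp = 495766656000 := by
  have := finite_co0
  obtain ⟨e⟩ := co3_equiv
  rw [← Nat.card_congr e.toEquiv]
  let E : co3Stab ≃* Spor.Co3 :=
    (co3Stab.equivMapOfInjective _ Co0.subtype_injective).trans (MulEquiv.subgroupCongr map_co3Stab)
  rw [← Nat.card_congr E.toEquiv]
  exact card_stab_fortyeight leechV_facts.1

end Cfsg.Agent.H95.CoThree
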