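import Cfsg.Agent.H95.CoThree.PermData
import Cfsg.Agent.H95.CoThree.WitData

/-!
Kernel check of the straight-line program of the witnesses.
-/

set_option autoImplicit false
set_option Elab.async false
set_option maxRecDepth 100000

namespace Cfsg.Agent.H95.CoThree

open Cfsg.Agent.Compute Cfsg.Agent.H95

theorem wit_ok' : PermIso.slpOK 9 276 5 [] witSlp = true := by decide +kernel

theorem wit_ok : PermIso.slpOK 9 276 5 (witSlp.map Prod.fst) witSlp = true :=
  PermWord.slpOK_self wit_ok'

theorem wit_gens : allN 5 (fun k => Nat.beq (PermLower.codeAt witSlp k)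
    (PermLower.codeAt co3Slp k)) = true := by decide +kernel

end Cfsg.Agent.H95.CoThree
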