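import Cfsg.Agent.H95.CoThree.WitCheck
import Cfsg.Agent.H95.CoThree.WitSlpCheck
import Cfsg.Agent.H95.CoThree.Perm
import Cfsg.Agent.H94.Mult.ThreePart

/-!
Co3 has no nontrivial stem extension.
-/

set_option autoImplicit false
set_option maxRecDepth 8000

namespace Cfsg.Agent.H95.CoThree

open Cfsg Cfsg.Agent.Compute Cfsg.Agent.Linear.Mult Cfsg.Agent.H95 Cfsg.Agent.H94.Mult

attribute [local irreducible] PermLower.lowOK PermIso.slpOK co3Slp witSlp twoSlp threeSlp fiveSlp
  twoCert threeCert fiveCert twoEqs twoLetters threeLetters fiveLetters permDen getP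

/-- The permutation group, generated by the program of the witnesses. -/
noncomputable abbrev WGrp : Subgroup (Equiv.Perm (Fin 276)) := PermLower.genGrp 9 276 5 witSlp

theorem wGrp_eq : WGrp = grp := by
  rw [grp_eq]
  show Subgroup.closure _ = Subgroup.closure _
  congr 1
  ext σ
  have h : ∀ k < 5, PermLower.codeAt witSlp k = PermLower.codeAt co3Slp k := fun k hk =>
    Nat.beq_eq.mp ((allN_iff _ _).1 wit_gens k hk)
  constructor <;> rintro ⟨k, hk, rfl⟩
  · exact ⟨k, hk, congrArg (permDen 9 276) (h k hk)⟩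
  · exact ⟨k, hk, congrArg (permDen 9 276) (h k hk).symm⟩

theorem card_wGrp : Nat.card WGrp = 495766656000 := by rw [wGrp_eq, card_grp]

/-- The elements of the letters. -/
noncomputable abbrev we (r : ℕ) : WGrp := PermWord.el 9 276 5 witSlp r

theorem eq_two {u v : List ℕ} (h : (u, v) ∈ twoEqs) : (u.map we).prod = (v.map we).prod :=
  PermWord.eq_of_eqsOK two_pow_nine wit_ok two_eqs h

/-- The model of the Sylow 2-subgroup. -/
noncomputable def twoModel : Model twoCert.R WGrp where
  G k := we (twoLetters.getD k 0)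
  V _ := 1
  V_zero := rfl
  V_xor _ _ := (one_mul _).symm
  V_central _ x := by rw [one_mul, mul_one]
  sq_rule i hi := by
    have h := eq_two (u := [twoLetters.getD i 0, twoLetters.getD i 0])
      (v := twoWord (twoCert.R.sqRule i).1) (by
        unfold twoEqs
        exact List.mem_append_left _ (List.mem_flatMap.2
          ⟨i, List.mem_range.2 hi, List.mem_cons_self⟩))
    rw [mul_one]
    simpa [twoWord, List.map_map, Function.comp_def] using h
  cm_rule i j hij hj := by
    have h := eq_two (u := [twoLetters.getD j 0, twoLetters.getD i 0])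
      (v := [twoLetters.getD i 0, twoLetters.getD j 0] ++ twoWord (twoCert.R.cmRule j i).1) (by
        unfold twoEqs
        exact List.mem_append_left _ (List.mem_flatMap.2 ⟨j, List.mem_range.2 hj,
          List.mem_cons_of_mem _ (List.mem_map.2 ⟨i, List.mem_range.2 hij, rfl⟩)⟩))
    rw [mul_one]
    simpa [twoWord, List.map_map, Function.comp_def, mul_assoc] using h

theorem not_dvd_index {l k : ℕ} (hl : l.Prime) {H : Subgroup WGrp} (hd : l ^ k ∣ Nat.card H)
    (hn : ¬ l ^ (k + 1) ∣ 495766656000) : ¬ l ∣ H.index := fun hi => hn (by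
  rw [← card_wGrp, ← H.card_mul_index, pow_succ]
  exact mul_dvd_mul hd hi)

theorem two_noPairs : twoCert.cmEqs = [] := by unfold twoCert; rfl

theorem noStem_two : NoStem 2 WGrp := by
  refine noStem_of_killed Nat.prime_two fun Γ _ _ E => ⟨twoCert.grp twoModel, ?_⟩
  have hfus : ∀ p ∈ twoCert.sqEqs, ∃ g : WGrp,
      g * twoModel.nf p.1 * g⁻¹ = twoModel.nf p.2 := by
    intro p hp
    obtain ⟨k, hk, rfl⟩ := List.getElem_of_mem hp
    have hk' : k < twoConj.length := by rwa [beq_iff_eq.1 two_conj]
    have h := eq_two (u := twoConj[k] :: twoWord (twoCert.sqEqs[k]).1)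
      (v := twoWord (twoCert.sqEqs[k]).2 ++ [twoConj[k]]) (by
        unfold twoEqs
        refine List.mem_append_right _ (List.mem_map.2 ⟨(twoCert.sqEqs[k], twoConj[k]), ?_, rfl⟩)
        exact List.mem_iff_getElem.2 ⟨k, by simp [hk, hk'], by simp⟩)
    refine ⟨we twoConj[k], mul_inv_eq_iff_eq_mul.2 ?_⟩
    simpa [twoWord, List.map_map, Function.comp_def, Model.nf, twoModel] using h
  have hlen : twoCert.R.n = 10 := by unfold twoCert; rfl
  have hge : 2 ^ twoCert.R.n ≤ Nat.card (twoCert.grp twoModel) := by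
    rw [hlen, show (2 : ℕ) ^ 10 = PermLower.bound twoSteps from two_bound.symm]
    refine PermWord.card_closure_ge two_pow_nine wit_ok two_slp two_low two_code fun r hr => ?_
    obtain ⟨k, hk, rfl⟩ := List.getElem_of_mem hr
    refine ⟨k, ?_, ?_⟩
    · rw [hlen]; exact lt_of_lt_of_le hk (by unfold twoLetters; decide)
    · show we (twoLetters.getD k 0) = _
      rw [List.getD_eq_getElem _ _ hk]
  obtain ⟨hk, hc⟩ := twoCert.killed E twoModel (fun _ => rfl) two_rules two_closed two_forms hfus
    (fun p hp => by rw [two_noPairs] at hp; exact absurd hp List.not_mem_nil) hge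
  exact ⟨hk, not_dvd_index Nat.prime_two (dvd_of_eq (hc.trans (by rw [hlen])).symm) (by norm_num)⟩

theorem noStem_inv (C : PermWord.InvCert) (hl : C.l.Prime) (hl2 : C.l ≠ 2) (hc : C.cover = true)
    (he : PermWord.eqsOK 9 276 witSlp C.eqs = true) {k : ℕ}
    (hk : C.l ^ k ≤ Nat.card (C.grp 9 276 5 witSlp)) (hn : ¬ C.l ^ (k + 1) ∣ 495766656000) :
    NoStem C.l WGrp :=
  noStem_of_killed hl fun _ _ _ E => ⟨_, C.killed two_pow_nine wit_ok hl hl2 hc he E,
    not_dvd_index hl (C.dvd_card two_pow_nine wit_ok hl hc he hk) hn⟩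

theorem mem_grp {C : PermWord.InvCert} {L : List ℕ}
    (h : (L.all fun r => C.A.contains r || C.S.contains r) = true) :
    ∀ r ∈ L, we r ∈ PermWord.el 9 276 5 witSlp '' {r | r ∈ C.A} ∪
      PermWord.el 9 276 5 witSlp '' {r | r ∈ C.S} := fun r hr => by
  simp only [List.all_eq_true, Bool.or_eq_true, List.contains_iff_mem] at h
  rcases h r hr with h | h
  · exact Or.inl ⟨r, h, rfl⟩
  · exact Or.inr ⟨r, h, rfl⟩

theorem noStem_three : NoStem 3 WGrp := by
  have e : threeCert.l = 3 := by unfold threeCert; rfl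
  rw [← e]
  refine noStem_inv threeCert (by rw [e]; norm_num) (by rw [e]; norm_num) three_cover three_eqs
    (k := 7) ?_ (by rw [e]; norm_num)
  rw [e, show (3 : ℕ) ^ 7 = PermLower.bound threeSteps from three_bound.symm]
  exact PermWord.card_closure_ge two_pow_nine wit_ok three_slp three_low three_code
    (mem_grp three_mem)

theorem noStem_five : NoStem 5 WGrp := by
  have e : fiveCert.l = 5 := by unfold fiveCert; rfl
  rw [← e]
  refine noStem_inv fiveCert (by rw [e]; norm_num) (by rw [e]; norm_num) five_cover five_eqs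
    (k := 3) ?_ (by rw [e]; norm_num)
  rw [e, show (5 : ℕ) ^ 3 = PermLower.bound fiveSteps from five_bound.symm]
  exact PermWord.card_closure_ge two_pow_nine wit_ok five_slp five_low five_code
    (mem_grp five_mem)

theorem trivialMultiplier : HasCyclicSchurMultiplier WGrp 1 := by
  refine hasTrivialMultiplier_of_noStem fun l hl => ?_
  by_cases h2 : l = 2
  · exact h2 ▸ noStem_two
  by_cases h3 : l = 3
  · exact h3 ▸ noStem_three
  by_cases h5 : l = 5
  · exact h5 ▸ noStem_five
  intro Γ _ _ σ hσ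
  refine H94.Mult.noStem_cyclic σ hl (fun hd => ?_) hσ
  rw [card_wGrp, show 495766656000 = (2 ^ 10 * (3 ^ 7 * 5 ^ 3)) * (7 * 11 * 23) by norm_num] at hd
  have hc : ∀ p : ℕ, p.Prime → l ≠ p → ∀ a, Nat.Coprime (l ^ 2) (p ^ a) := fun p hp h a =>
    Nat.Coprime.pow 2 a ((Nat.coprime_primes hl hp).2 h)
  have hd' := (((hc 2 Nat.prime_two h2 10).mul_right ((hc 3 Nat.prime_three h3 7).mul_right
    (hc 5 (by norm_num) h5 3))).dvd_of_dvd_mul_left hd)
  have hle : l ≤ 43 := by have := Nat.le_of_dvd (by norm_num) hd'; nlinarith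
  have := hl.two_le
  interval_cases l <;> revert hd' <;> norm_num

end Cfsg.Agent.H95.CoThree
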