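import Cfsg.Agent.H95.CoThree.PermData
import Cfsg.Agent.H95.CoThree.WitData

/-!
Kernel checks of the Sylow subgroups of Co3 on 276 points.
-/

set_option autoImplicit false
set_option Elab.async false
set_option maxRecDepth 100000

namespace Cfsg.Agent.H95.CoThree

open Cfsg.Agent.Compute Cfsg.Agent.H95 Cfsg.Agent.H94.Mult

/-- The letters of a normal form of the Sylow 2-subgroup. -/
def twoWord (u : ℕ) : List ℕ := (bitsOf twoCert.R.n u).map fun k => twoLetters.getD k 0

/-- The word equations of the rules and conjugations. -/
def twoEqs : List (List ℕ × List ℕ) :=
  (List.range twoCert.R.n).flatMap (fun j =>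
    ([twoLetters.getD j 0, twoLetters.getD j 0], twoWord (twoCert.R.sqRule j).1) ::
      (List.range j).map fun i => ([twoLetters.getD j 0, twoLetters.getD i 0],
        [twoLetters.getD i 0, twoLetters.getD j 0] ++ twoWord (twoCert.R.cmRule j i).1)) ++
  (twoCert.sqEqs.zip twoConj).map fun p => (p.2 :: twoWord p.1.1, twoWord p.1.2 ++ [p.2])

theorem two_rules : twoCert.checkRules = true := by decide +kernel

theorem two_closed : twoCert.checkClosed = true := by decide +kernel

theorem two_forms : twoCert.checkForms = true := by decide +kernel

theorem two_eqs : PermWord.eqsOK 9 276 witSlp twoEqs = true := by decide +kernel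

theorem two_slp : PermIso.slpOK 9 276 10 (twoSlp.map Prod.fst) twoSlp = true := by decide +kernel

theorem two_low : PermLower.lowOK 9 276 twoSlp twoSteps [] = true := by decide +kernel

theorem two_bound : PermLower.bound twoSteps = 1024 := by decide +kernel

theorem two_code : allN 10 (fun k => Nat.ble (Nat.add k 1) twoLetters.length &&
    Nat.ble (Nat.add (nth 0 twoLetters k) 1) (Nat.mul 2 witSlp.length) &&
    Nat.beq (PermLower.codeAt twoSlp k) (PermIso.operand witSlp (nth 0 twoLetters k))) = true := by
  decide +kernel

theorem two_conj : (twoConj.length == twoCert.sqEqs.length) = true := by decide +kernel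

theorem three_cover : threeCert.cover = true := by decide +kernel

theorem three_eqs : PermWord.eqsOK 9 276 witSlp threeCert.eqs = true := by decide +kernel

theorem three_slp : PermIso.slpOK 9 276 7 (threeSlp.map Prod.fst) threeSlp = true := by
  decide +kernel

theorem three_low : PermLower.lowOK 9 276 threeSlp threeSteps [] = true := by decide +kernel

theorem three_bound : PermLower.bound threeSteps = 2187 := by decide +kernel

theorem three_code : allN 7 (fun k => Nat.ble (Nat.add k 1) threeLetters.length &&
    Nat.ble (Nat.add (nth 0 threeLetters k) 1) (Nat.mul 2 witSlp.length) &&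
    Nat.beq (PermLower.codeAt threeSlp k) (PermIso.operand witSlp (nth 0 threeLetters k))) =
      true := by
  decide +kernel

theorem three_mem : (threeLetters.all fun r => threeCert.A.contains r || threeCert.S.contains r) =
    true := by decide +kernel

theorem five_cover : fiveCert.cover = true := by decide +kernel

theorem five_eqs : PermWord.eqsOK 9 276 witSlp fiveCert.eqs = true := by decide +kernel

theorem five_slp : PermIso.slpOK 9 276 3 (fiveSlp.map Prod.fst) fiveSlp = true := by decide +kernel

theorem five_low : PermLower.lowOK 9 276 fiveSlp fiveSteps [] = true := by decide +kernel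

theorem five_bound : PermLower.bound fiveSteps = 125 := by decide +kernel

theorem five_code : allN 3 (fun k => Nat.ble (Nat.add k 1) fiveLetters.length &&
    Nat.ble (Nat.add (nth 0 fiveLetters k) 1) (Nat.mul 2 witSlp.length) &&
    Nat.beq (PermLower.codeAt fiveSlp k) (PermIso.operand witSlp (nth 0 fiveLetters k))) =
      true := by
  decide +kernel

theorem five_mem : (fiveLetters.all fun r => fiveCert.A.contains r || fiveCert.S.contains r) =
    true := by decide +kernel

end Cfsg.Agent.H95.CoThree
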